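import Mathlib

/-!
Permutations of at most ten points: 3-subgroups inverted by an involution with few fixed points, and 3-elements
commuting with one.
-/

set_option autoImplicit false

namespace CfsgLib.AltDoubleCent

open Equiv MulAction

variable {n : ℕ}

/-- A permutation group fixing a set pointwise has order dividing the factorial of the number of other points. -/
theorem card_dvd_factorial_of_fix (H : Subgroup (Perm (Fin n))) (S : Set (Fin n))
    (h : ∀ a ∈ H, ∀ x ∈ S, (a : Perm (Fin n)) x = x) : Nat.card H ∣ Nat.factorial (n - S.ncard) := by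
  classical
  have hmem : ∀ a ∈ H, ∀ x, x ∈ Sᶜ ↔ (a : Perm (Fin n)) x ∈ Sᶜ := by
    intro a ha x
    simp only [Set.mem_compl_iff, not_iff_not]
    refine ⟨fun hx => by rw [h a ha x hx]; exact hx, fun hx => ?_⟩
    have := a.injective (h a ha _ hx)
    rwa [this] at hx
  let f : H →* Perm {x : Fin n // x ∈ Sᶜ} :=
    { toFun := fun a => (a : Perm (Fin n)).subtypePerm fun x => (hmem a a.2 x).symm
      map_one' := by ext; rfl
      map_mul' := fun a b => by ext; rfl }
  have hf : Function.Injective f := by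
    intro a b hab
    refine Subtype.ext (Equiv.ext fun x => ?_)
    by_cases hx : x ∈ S
    · rw [h a a.2 x hx, h b b.2 x hx]
    · have := congrArg (fun p : Perm {x : Fin n // x ∈ Sᶜ} => ((p ⟨x, hx⟩ : {x : Fin n // x ∈ Sᶜ}) : Fin n)) hab
      exact this
  have hd := Subgroup.card_dvd_of_injective f hf
  have h1 : Nat.card (Perm {x : Fin n // x ∈ Sᶜ}) = Nat.factorial (n - S.ncard) := by
    rw [Nat.card_perm]
    congr 1
    have h2 : Nat.card {x : Fin n // x ∈ Sᶜ} = (Sᶜ).ncard := Nat.card_coe_set_eq _
    have h3 := Set.ncard_add_ncard_compl S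
    rw [Nat.card_eq_fintype_card (α := Fin n), Fintype.card_fin] at h3
    omega
  rwa [h1] at hd

/-- An abelian 3-subgroup of `Perm (Fin n)`, `n ≤ 10`, inverted by an involution with at most two fixed points
has order at most nine. -/
theorem card_le_nine_of_inverted (hn : n ≤ 10) (A : Subgroup (Perm (Fin n))) (hA : IsPGroup 3 A)
    (hab : ∀ a ∈ A, ∀ b ∈ A, a * b = b * a) (τ : Perm (Fin n)) (hτ : τ * τ = 1)
    (hfix : (Finset.univ.filter fun x => τ x = x).card ≤ 2) (hinv : ∀ a ∈ A, τ * a * τ = a⁻¹) :
    Nat.card A ≤ 9 := by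
  classical
  haveI : Fact (Nat.Prime 3) := ⟨Nat.prime_three⟩
  by_contra hbig
  obtain ⟨k, hk⟩ := hA.exists_card_eq
  have hk3 : 3 ≤ k := by
    by_contra hc
    have : 3 ^ k ≤ 3 ^ 2 := Nat.pow_le_pow_right (by norm_num) (by omega)
    norm_num at this
    omega
  have h27 : 27 ∣ Nat.card A := by
    rw [hk, show (27 : ℕ) = 3 ^ 3 by norm_num]
    exact pow_dvd_pow 3 hk3
  -- stabilisers
  let st : Fin n → Subgroup (Perm (Fin n)) := fun x => A ⊓ MulAction.stabilizer (Perm (Fin n)) x
  have mem_st : ∀ {a : Perm (Fin n)} {x : Fin n}, a ∈ st x ↔ a ∈ A ∧ a x = x := fun {a x} => Iff.rfl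
  have hst_eq : ∀ (a : Perm (Fin n)), a ∈ A → ∀ x, st (a x) = st x := by
    intro a ha x
    ext b
    simp only [mem_st]
    refine and_congr_right fun hb => ?_
    rw [← Perm.mul_apply, hab b hb a ha, Perm.mul_apply, a.injective.eq_iff]
  have horb : ∀ x : Fin n, Nat.card (MulAction.stabilizer A x) * (MulAction.orbit A x).ncard = Nat.card A := fun x => by
    rw [← MulAction.index_stabilizer, Subgroup.card_mul_index]
  have hstc : ∀ x : Fin n, Nat.card (st x) = Nat.card (MulAction.stabilizer A x) := fun x => by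
    refine Nat.card_congr
      { toFun := fun a => ⟨⟨a.1, a.2.1⟩, a.2.2⟩
        invFun := fun a => ⟨a.1.1, a.1.2, a.2⟩
        left_inv := fun a => rfl
        right_inv := fun a => rfl }
  have hfixorb : ∀ x : Fin n, ∀ b ∈ st x, ∀ p ∈ MulAction.orbit A x, b p = p := by
    rintro x b hb p ⟨a, rfl⟩
    have : b ∈ st ((a : Perm (Fin n)) x) := by rw [hst_eq a a.2 x]; exact hb
    exact (mem_st.1 this).2
  have hsize : ∀ x : Fin n, (MulAction.orbit A x).ncard = 1 ∨ (MulAction.orbit A x).ncard = 3 := by
    intro x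
    obtain ⟨j, -, hj⟩ := (Nat.dvd_prime_pow Nat.prime_three).1 (hk ▸ Dvd.intro_left _ (horb x))
    have hle : (MulAction.orbit A x).ncard ≤ 10 := by
      refine le_trans ?_ hn
      simpa using Set.ncard_le_card (MulAction.orbit A x)
    have hj2 : j ≤ 2 := by
      by_contra hc
      have : 3 ^ 3 ≤ 3 ^ j := Nat.pow_le_pow_right (by norm_num) (by omega)
      omega
    interval_cases j
    · exact Or.inl (by simpa using hj)
    · exact Or.inr (by simpa using hj)
    · exfalso
      have hd := card_dvd_factorial_of_fix (st x) (MulAction.orbit A x) (hfixorb x)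
      have h1 : n - (MulAction.orbit A x).ncard ≤ 1 := by rw [hj]; omega
      rw [Nat.factorial_eq_one.2 h1, Nat.dvd_one] at hd
      have := horb x
      rw [← hstc, hd, hj, one_mul] at this
      omega
  have hmoved : ∀ (x : Fin n) (a : Perm (Fin n)), a ∈ A → a x ≠ x → (MulAction.orbit A x).ncard = 3 := by
    intro x a ha hax
    refine (hsize x).resolve_left fun h1 => hax ?_
    obtain ⟨p, hp⟩ := Set.ncard_eq_one.1 h1
    have h2 : a x ∈ MulAction.orbit A x := ⟨⟨a, ha⟩, rfl⟩
    have h3 := MulAction.mem_orbit_self (M := A) x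
    rw [hp] at h2 h3
    exact h2.trans h3.symm
  have h9 : ∀ x : Fin n, 9 ∣ Nat.card (st x) := by
    intro x
    have := horb x
    rw [hstc]
    rcases hsize x with e | e <;> rw [e] at this
    · rw [mul_one] at this; rw [this]; exact dvd_trans (by norm_num) h27
    · obtain ⟨c, hc⟩ := h27
      exact ⟨c, by omega⟩
  -- two moved points with the same stabiliser share their orbit
  have hsame : ∀ x y : Fin n, (MulAction.orbit A x).ncard = 3 → (MulAction.orbit A y).ncard = 3 → st x = st y →
      y ∈ MulAction.orbit A x := by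
    intro x y hx hy hxy
    by_contra hne
    have hdisj : Disjoint (MulAction.orbit A x) (MulAction.orbit A y) := by
      rw [Set.disjoint_left]
      intro p hp hp'
      exact hne (by rw [← MulAction.orbit_eq_iff.2 hp, MulAction.orbit_eq_iff.2 hp']; exact MulAction.mem_orbit_self y)
    have hd := card_dvd_factorial_of_fix (st x) (MulAction.orbit A x ∪ MulAction.orbit A y) (by
      intro b hb p hp
      rcases hp with hp | hp
      · exact hfixorb x b hb p hp
      · exact hfixorb y b (hxy ▸ hb) p hp)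
    rw [Set.ncard_union_eq hdisj, hx, hy] at hd
    have h4 : Nat.factorial (n - (3 + 3)) ∣ Nat.factorial 4 := Nat.factorial_dvd_factorial (by omega)
    have := (h9 x).trans (hd.trans h4)
    norm_num [Nat.factorial] at this
  -- the involution fixes a point of each moved orbit
  have hτinv : ∀ (a : Perm (Fin n)), a ∈ A → ∀ p, τ (a p) = a⁻¹ (τ p) := by
    intro a ha p
    have := congrArg (fun σ : Perm (Fin n) => σ (τ p)) (hinv a ha)
    simp only [Perm.mul_apply] at this
    rw [show τ (τ p) = p from congrFun (congrArg DFunLike.coe hτ) p] at this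
    exact this
  have hfixed : ∀ x : Fin n, (MulAction.orbit A x).ncard = 3 → ∃ p ∈ MulAction.orbit A x, τ p = p := by
    intro x hx
    have hy : (MulAction.orbit A (τ x)).ncard = 3 := by
      obtain ⟨p, hp, hpx⟩ := Set.exists_ne_of_one_lt_ncard (by rw [hx]; norm_num) x
      obtain ⟨a, rfl⟩ := hp
      refine hmoved (τ x) a a.2 fun e => hpx ?_
      have h1 : τ ((a : Perm (Fin n)) x) = τ x := by
        rw [hτinv a a.2, Equiv.Perm.inv_eq_iff_eq]
        exact e.symm
      exact τ.injective h1
    have hst : st x = st (τ x) := by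
      ext b
      simp only [mem_st]
      refine and_congr_right fun hb => ⟨fun e => ?_, fun e => ?_⟩
      · have := hτinv b hb x
        rw [e] at this
        exact Equiv.Perm.inv_eq_iff_eq.1 this.symm |>.symm
      · refine τ.injective ?_
        rw [hτinv b hb, Equiv.Perm.inv_eq_iff_eq]
        exact e.symm
    obtain ⟨b, hb⟩ := hsame x (τ x) hx hy hst
    have hb3 : (b : Perm (Fin n)) ((b : Perm (Fin n)) ((b : Perm (Fin n)) x)) = x := by
      haveI : (MulAction.stabilizer A x).Normal :=
        ⟨fun s hs g => by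
          have : g * s * g⁻¹ = s := by
            apply Subtype.ext
            show (g : Perm (Fin n)) * s * (g : Perm (Fin n))⁻¹ = s
            rw [hab g g.2 s s.2, mul_inv_cancel_right]
          rwa [this]⟩
      have := Subgroup.pow_index_mem (MulAction.stabilizer A x) b
      rw [MulAction.index_stabilizer, hx, MulAction.mem_stabilizer_iff] at this
      simpa [pow_succ, Perm.mul_apply, Subgroup.smul_def, Perm.smul_def] using this
    refine ⟨(b : Perm (Fin n)) ((b : Perm (Fin n)) x), ⟨b * b, rfl⟩, ?_⟩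
    have hb' : (b : Perm (Fin n)) x = τ x := hb
    rw [hτinv b b.2, hτinv b b.2, Equiv.Perm.inv_eq_iff_eq, Equiv.Perm.inv_eq_iff_eq, ← hb']
    rw [hb3]
  -- three orbits
  have hmove : ∀ B : Subgroup (Perm (Fin n)), 1 < Nat.card B → ∃ x, ∃ a ∈ B, (a : Perm (Fin n)) x ≠ x := by
    intro B hB
    obtain ⟨⟨a, ha⟩, hne⟩ := Subgroup.ne_bot_iff_exists_ne_one.1 (fun e : B = ⊥ => by
      rw [e, Subgroup.card_bot] at hB; omega)
    have ha1 : a ≠ 1 := fun e => hne (Subtype.ext e)
    by_contra hc
    push Not at hc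
    exact ha1 (Equiv.ext fun x => hc x a ha)
  obtain ⟨x1, a1, ha1, hm1⟩ := hmove A (by omega)
  have ho1 := hmoved x1 a1 ha1 hm1
  obtain ⟨x2, a2, ha2, hm2⟩ := hmove (st x1) (by
    have := Nat.le_of_dvd Nat.card_pos (h9 x1); omega)
  have ho2 := hmoved x2 a2 ha2.1 hm2
  have h12 : Nat.card (st x1) ≤ 3 * Nat.card (st x1 ⊓ st x2 : Subgroup (Perm (Fin n))) := by
    have h1 : (st x2).relIndex A = 3 := by
      have h := Subgroup.card_mul_index ((st x2).subgroupOf A)
      rw [Nat.card_congr (Subgroup.subgroupOfEquivOfLe (inf_le_left : st x2 ≤ A)).toEquiv] at h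
      have h' := horb x2
      rw [← hstc, ho2] at h'
      exact Nat.eq_of_mul_eq_mul_left Nat.card_pos (h.trans h'.symm)
    have h2 : (st x2).relIndex (st x1) ≤ 3 := by
      rw [← h1]
      exact Subgroup.relIndex_le_of_le_right inf_le_left (by rw [h1]; norm_num)
    have h3 := Subgroup.card_mul_index ((st x2).subgroupOf (st x1))
    rw [← Subgroup.inf_subgroupOf_left, Nat.card_congr (Subgroup.subgroupOfEquivOfLe inf_le_left).toEquiv] at h3
    calc Nat.card (st x1) = _ := h3.symm
      _ ≤ Nat.card (st x1 ⊓ st x2 : Subgroup (Perm (Fin n))) * 3 := by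
        refine Nat.mul_le_mul_left _ ?_
        rw [Subgroup.inf_subgroupOf_left]
        exact h2
      _ = _ := by ring
  obtain ⟨x3, a3, ha3, hm3⟩ := hmove (st x1 ⊓ st x2) (by
    have := Nat.le_of_dvd Nat.card_pos (h9 x1); omega)
  have ho3 := hmoved x3 a3 ha3.1.1 hm3
  obtain ⟨p1, hp1, hf1⟩ := hfixed x1 ho1
  obtain ⟨p2, hp2, hf2⟩ := hfixed x2 ho2
  obtain ⟨p3, hp3, hf3⟩ := hfixed x3 ho3
  have e12 : p1 ≠ p2 := fun e => by
    refine hm2 (hfixorb x1 a2 ha2 x2 ?_)
    rw [← MulAction.orbit_eq_iff.2 hp1, e, MulAction.orbit_eq_iff.2 hp2]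
    exact MulAction.mem_orbit_self x2
  have e13 : p1 ≠ p3 := fun e => by
    refine hm3 (hfixorb x1 a3 ha3.1 x3 ?_)
    rw [← MulAction.orbit_eq_iff.2 hp1, e, MulAction.orbit_eq_iff.2 hp3]
    exact MulAction.mem_orbit_self x3
  have e23 : p2 ≠ p3 := fun e => by
    refine hm3 (hfixorb x2 a3 ha3.2 x3 ?_)
    rw [← MulAction.orbit_eq_iff.2 hp2, e, MulAction.orbit_eq_iff.2 hp3]
    exact MulAction.mem_orbit_self x3
  have hsub : ({p1, p2, p3} : Finset (Fin n)) ⊆ Finset.univ.filter fun x => τ x = x := by
    intro p hp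
    simp only [Finset.mem_insert, Finset.mem_singleton] at hp
    rcases hp with rfl | rfl | rfl <;> simp [hf1, hf2, hf3]
  have := Finset.card_le_card hsub
  rw [Finset.card_eq_three.2 ⟨p1, p2, p3, e12, e13, e23, rfl⟩] at this
  omega

/-- A 3-element of `Perm (Fin n)`, `n ≤ 10`, commuting with an involution with at most two fixed points is a
product of two 3-cycles. -/
theorem cycleType_of_commute (hn : n ≤ 10) (x τ : Perm (Fin n)) (hx : orderOf x = 3) (hτ : τ * τ = 1)
    (hfix : (Finset.univ.filter fun p => τ p = p).card ≤ 2) (hc : τ * x = x * τ) :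
    x.cycleType = {3, 3} := by
  classical
  obtain ⟨k, hk⟩ := Perm.cycleType_prime_order (σ := x) (by rw [hx]; exact Nat.prime_three)
  rw [hx] at hk
  have hsum := Perm.sum_cycleType_le x
  rw [hk, Multiset.sum_replicate, Fintype.card_fin, smul_eq_mul] at hsum
  have hsupp : x.support.card = (k + 1) * 3 := by
    rw [← Perm.sum_cycleType, hk, Multiset.sum_replicate, smul_eq_mul]
  have hcx : ∀ p, τ (x p) = x (τ p) := fun p => congrFun (congrArg DFunLike.coe hc) p
  have hx3 : ∀ p, x (x (x p)) = p := by
    intro p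
    have h := pow_orderOf_eq_one x
    rw [hx] at h
    simpa [pow_succ, Perm.mul_apply] using congrFun (congrArg DFunLike.coe h) p
  have hnofix : ∀ p ∈ x.support, τ p ≠ p := by
    intro p hp e
    rw [Perm.mem_support] at hp
    have e1 : τ (x p) = x p := by rw [hcx, e]
    have e2 : τ (x (x p)) = x (x p) := by rw [hcx, e1]
    have d1 : x (x p) ≠ x p := fun h => hp (x.injective h)
    have d2 : x (x p) ≠ p := fun h => hp (by
      have := congrArg x h
      rw [hx3] at this
      exact this.symm)
    have hsub : ({p, x p, x (x p)} : Finset (Fin n)) ⊆ Finset.univ.filter fun q => τ q = q := by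
      intro q hq
      simp only [Finset.mem_insert, Finset.mem_singleton] at hq
      rcases hq with rfl | rfl | rfl <;> simp [e, e1, e2]
    have := Finset.card_le_card hsub
    rw [Finset.card_eq_three.2 ⟨p, x p, x (x p), hp.symm, d2.symm, d1.symm, rfl⟩] at this
    omega
  have hmem : ∀ p, τ p ∈ x.support ↔ p ∈ x.support := by
    intro p
    simp only [Perm.mem_support]
    rw [← hcx, τ.injective.ne_iff]
  let τ' : Perm {p // p ∈ x.support} := τ.subtypePerm hmem
  have hsq : τ' ^ 2 = 1 := by
    ext p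
    simp only [τ', pow_two, Perm.mul_apply, Perm.subtypePerm_apply, Perm.one_apply]
    exact congrArg Fin.val (congrFun (congrArg DFunLike.coe hτ) p.1)
  have hfull : τ'.support = Finset.univ := by
    ext p
    simp only [Perm.mem_support, Finset.mem_univ, iff_true]
    exact fun e => hnofix p.1 p.2 (congrArg Subtype.val e)
  have h2 := Perm.two_dvd_card_support hsq
  rw [hfull, Finset.card_univ, Fintype.card_coe, hsupp] at h2
  have hk1 : k = 1 := by omega
  rw [hk, hk1]
  rfl

end CfsgLib.AltDoubleCent
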