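import Cfsg.Agent.Lib.AltDoubleCent.FrameDef
import Cfsg.Agent.Lib.AltDoubleCent.Perm

/-!
Basic properties of the frame in degrees nine and ten.
-/

set_option autoImplicit false
set_option linter.unusedSectionVars false
set_option maxRecDepth 8000

namespace CfsgLib.AltDoubleCent

open Equiv CfsgLib.RealChar.AltCover CfsgLib.Classes.AltCoverComm

universe u

variable {G : Type u} [Group G] {n : ℕ} {z : G}

theorem t0_facts (h9 : 9 ≤ n) (h10 : n ≤ 10) :
    t0 h9 * t0 h9 = 1 ∧ t0 h9 ≠ 1 ∧ Perm.sign (t0 h9) = 1 ∧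
    t0 h9 * a0 h9 * (t0 h9)⁻¹ = b0 h9 ∧ t0 h9 * b0 h9 * (t0 h9)⁻¹ = a0 h9 ∧
    t0 h9 * c0 h9 * (t0 h9)⁻¹ = (c0 h9)⁻¹ := by
  obtain rfl | rfl : n = 9 ∨ n = 10 := by omega
  · (clear h10; revert h9; decide +kernel)
  · (clear h10; revert h9; decide +kernel)

theorem cyc0_facts (h9 : 9 ≤ n) (h10 : n ≤ 10) :
    a0 h9 * b0 h9 = b0 h9 * a0 h9 ∧ a0 h9 * c0 h9 = c0 h9 * a0 h9 ∧
    b0 h9 * c0 h9 = c0 h9 * b0 h9 ∧ a0 h9 ^ 3 = 1 ∧ b0 h9 ^ 3 = 1 ∧ c0 h9 ^ 3 = 1 ∧
    a0 h9 ≠ 1 ∧ b0 h9 ≠ 1 ∧ c0 h9 ≠ 1 ∧ Perm.sign (a0 h9) = 1 ∧ Perm.sign (b0 h9) = 1 ∧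
    Perm.sign (c0 h9) = 1 ∧ (a0 h9 * b0 h9) ^ 3 = 1 ∧ a0 h9 * b0 h9 ≠ 1 := by
  obtain rfl | rfl : n = 9 ∨ n = 10 := by omega
  · (clear h10; revert h9; decide +kernel)
  · (clear h10; revert h9; decide +kernel)

theorem y0_facts (h9 : 9 ≤ n) (h10 : n ≤ 10) :
    (a0 h9 * b0 h9).cycleType = {3, 3} ∧
      swap (Fin.castLE h9 6) (Fin.castLE h9 7) * (a0 h9 * b0 h9) *
        swap (Fin.castLE h9 6) (Fin.castLE h9 7) = a0 h9 * b0 h9 := by
  obtain rfl | rfl : n = 9 ∨ n = 10 := by omega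
  · (clear h10; revert h9; decide +kernel)
  · (clear h10; revert h9; decide +kernel)

theorem Setting.cycleType_involution [Finite G] (S : Setting G n z) (hn : n ≤ 10) {x : G}
    (hx : Commute x z) (hx2 : x * x = 1) (hx1 : x ≠ 1) (hxz : x ≠ z) :
    8 ≤ n ∧ (S.img x).cycleType = {2, 2, 2, 2} := by
  classical
  set σ := S.img x with hσ
  have hσ1 : σ ≠ 1 := fun h => ((S.img_eq_one hx).mp h).elim hx1 hxz
  have hσ2 : σ ^ 2 = 1 := by rw [hσ, ← S.img_pow hx, pow_two, hx2, S.img_one]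
  have ho : orderOf σ = 2 := orderOf_eq_prime hσ2 hσ1
  obtain ⟨k, hk⟩ := Perm.cycleType_prime_order (σ := σ) (by rw [ho]; exact Nat.prime_two)
  rw [ho] at hk
  have hsum : σ.cycleType.sum = σ.support.card := Perm.sum_cycleType σ
  rw [hk, Multiset.sum_replicate, smul_eq_mul] at hsum
  have hle : σ.support.card ≤ n := by simpa using Finset.card_le_univ σ.support
  have hsign := Perm.sign_of_cycleType σ
  rw [hσ, S.sign_img, ← hσ, hk, Multiset.sum_replicate, smul_eq_mul, Multiset.card_replicate] at hsign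
  have hpar : Even (k + 1) := by
    by_contra hp
    rw [Nat.not_even_iff_odd] at hp
    rw [Odd.neg_one_pow (by
      obtain ⟨j, hj⟩ := hp
      exact ⟨(k + 1) + j, by omega⟩)] at hsign
    exact absurd hsign (by decide)
  obtain ⟨j, hj⟩ := hpar
  have h1 : k ≠ 1 := by
    intro hk1
    subst hk1
    have hn4 : 4 ≤ n := by omega
    have h4 : Four (⟨0, by omega⟩ : Fin n) ⟨1, by omega⟩ ⟨2, by omega⟩ ⟨3, by omega⟩ := by
      constructor <;> simp [Fin.ext_iff]
    obtain ⟨g, hg⟩ := isConj_iff.mp (Perm.isConj_iff_cycleType_eq.mpr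
      (h4.cycleType.trans (by rw [hk]; rfl) : _ = σ.cycleType))
    have h4' : Four (g ⟨0, by omega⟩) (g ⟨1, by omega⟩) (g ⟨2, by omega⟩) (g ⟨3, by omega⟩) := by
      constructor <;> simp [Fin.ext_iff]
    have h' := S.sq_eq_z hx h4' (by
      rw [← hσ, ← hg, swap_apply_apply, swap_apply_apply]
      group)
    exact S.z_ne_one (h'.symm.trans hx2)
  have hk3 : k = 3 := by omega
  subst hk3
  exact ⟨by omega, by rw [hk]; rfl⟩

/-- An involution of the centraliser other than `z` fixes at most two points. -/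
theorem Setting.fix_le_two [Finite G] (S : Setting G n z) (hn : n ≤ 10) {x : G} (hx : Commute x z)
    (hx2 : x * x = 1) (hx1 : x ≠ 1) (hxz : x ≠ z) :
    (Finset.univ.filter fun p => S.img x p = p).card ≤ 2 := by
  classical
  obtain ⟨-, hct⟩ := S.cycleType_involution hn hx hx2 hx1 hxz
  have hsum : (S.img x).cycleType.sum = (S.img x).support.card := Perm.sum_cycleType _
  rw [hct] at hsum
  have : (Finset.univ.filter fun p => S.img x p = p) = (S.img x).supportᶜ := by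
    ext p; simp [Perm.mem_support]
  rw [this, Finset.card_compl, Fintype.card_fin, ← hsum]
  simp
  omega

theorem Setting.exists_frame [Finite G] [IsSimpleGroup G] (S : Setting G n z) (h9 : 9 ≤ n)
    (h10 : n ≤ 10) : Nonempty (Frame S h9) := by
  classical
  obtain ⟨g, hg, hne⟩ := S.exists_conj_ne (by omega)
  set t := g * z * g⁻¹ with ht
  have ht2 : t * t = 1 := by
    rw [ht, show g * z * g⁻¹ * (g * z * g⁻¹) = g * (z * z) * g⁻¹ by group, S.z_sq]; group
  have ht1 : t ≠ 1 := by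
    intro h; apply S.z_ne_one
    calc z = g⁻¹ * t * g := by rw [ht]; group
      _ = 1 := by rw [h]; group
  obtain ⟨-, hct⟩ := S.cycleType_involution h10 hg ht2 ht1 hne
  have hct0 : (t0 h9).cycleType = {2, 2, 2, 2} ∧ swap (Fin.castLE h9 0) (Fin.castLE h9 3) * t0 h9 *
      (swap (Fin.castLE h9 0) (Fin.castLE h9 3)) = t0 h9 := by
    obtain rfl | rfl : n = 9 ∨ n = 10 := by omega
    · (clear h10; revert h9; decide +kernel)
    · (clear h10; revert h9; decide +kernel)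
  obtain ⟨σ, hσ⟩ := isConj_iff.mp (Perm.isConj_iff_cycleType_eq.mpr (hct.trans hct0.1.symm))
  obtain ⟨σ', hs, hσ'⟩ : ∃ σ' : Perm (Fin n), Perm.sign σ' = 1 ∧ σ' * S.img t * σ'⁻¹ = t0 h9 := by
    rcases Int.units_eq_one_or (Perm.sign σ) with h | h
    · exact ⟨σ, h, hσ⟩
    · refine ⟨swap (Fin.castLE h9 0) (Fin.castLE h9 3) * σ, ?_, ?_⟩
      · rw [map_mul, h, Perm.sign_swap (by simp [Fin.ext_iff])]; rfl
      · conv_rhs => rw [← hct0.2]
        rw [← hσ, mul_inv_rev, swap_inv]; group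
  obtain ⟨k, hk, hki⟩ := S.exists_img hs
  obtain ⟨-, -, -, -, -, -, ha1, hb1, hc1, hsa, hsb, hsc, -⟩ := cyc0_facts h9 h10
  obtain ⟨-, -, -, ha3, hb3, hc3, -⟩ := cyc0_facts h9 h10
  haveI : Fact (Nat.Prime 3) := ⟨Nat.prime_three⟩
  have oa := orderOf_eq_prime ha3 ha1
  have ob := orderOf_eq_prime hb3 hb1
  have oc := orderOf_eq_prime hc3 hc1
  obtain ⟨a, hac, hai, hao⟩ := S.exists_odd_img hsa (by rw [oa]; decide)
  obtain ⟨b, hbc, hbi, hbo⟩ := S.exists_odd_img hsb (by rw [ob]; decide)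
  obtain ⟨c, hcc, hci, hco⟩ := S.exists_odd_img hsc (by rw [oc]; decide)
  refine ⟨⟨k * t * k⁻¹, a, b, c, ⟨k * g, by rw [ht]; group⟩, (hk.mul_left hg).mul_left hk.inv_left,
    hac, hbc, hcc, hao.trans oa, hbo.trans ob, hco.trans oc, ?_, hai, hbi, hci⟩⟩
  rw [S.img_conj hk hg, hki, hσ']

namespace Frame

variable {S : Setting G n z} {h9 : 9 ≤ n} (F : Frame S h9)

include F in
theorem t_sq : F.t * F.t = 1 := by
  obtain ⟨g, hg⟩ := F.isConj
  rw [← hg, show g * z * g⁻¹ * (g * z * g⁻¹) = g * (z * z) * g⁻¹ by group, S.z_sq]; group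

include F in
theorem t_inv : F.t⁻¹ = F.t := inv_eq_of_mul_eq_one_right F.t_sq

theorem t_ne_one (h10 : n ≤ 10) : F.t ≠ 1 := fun h => (t0_facts h9 h10).2.1 (by
  rw [← F.img_t, h, S.img_one])

theorem t_ne_z (h10 : n ≤ 10) : F.t ≠ z := fun h => (t0_facts h9 h10).2.1 (by
  rw [← F.img_t, h, S.img_z])

theorem a_odd : Odd (orderOf F.a) := by rw [F.a_ord]; decide

theorem b_odd : Odd (orderOf F.b) := by rw [F.b_ord]; decide

theorem c_odd : Odd (orderOf F.c) := by rw [F.c_ord]; decide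

theorem commute_ab (h10 : n ≤ 10) : Commute F.a F.b :=
  S.commute_of_img F.a_comm F.b_comm F.a_odd (by
    rw [F.img_a, F.img_b]; exact (cyc0_facts h9 h10).1)

theorem commute_ac (h10 : n ≤ 10) : Commute F.a F.c :=
  S.commute_of_img F.a_comm F.c_comm F.a_odd (by
    rw [F.img_a, F.img_c]; exact (cyc0_facts h9 h10).2.1)

theorem commute_bc (h10 : n ≤ 10) : Commute F.b F.c :=
  S.commute_of_img F.b_comm F.c_comm F.b_odd (by
    rw [F.img_b, F.img_c]; exact (cyc0_facts h9 h10).2.2.1)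

theorem t_conj_a (h10 : n ≤ 10) : F.t * F.a * F.t⁻¹ = F.b := by
  refine (S.eq_of_odd ((F.t_comm.mul_left F.a_comm).mul_left F.t_comm.inv_left) F.b_comm
    (by rw [show F.t * F.a * F.t⁻¹ = MulAut.conj F.t F.a from rfl, MulEquiv.orderOf_eq]; exact F.a_odd)
    F.b_odd ?_).symm
  rw [S.img_conj F.t_comm F.a_comm, F.img_t, F.img_a, F.img_b, (t0_facts h9 h10).2.2.2.1]

theorem t_conj_b (h10 : n ≤ 10) : F.t * F.b * F.t⁻¹ = F.a := by
  refine (S.eq_of_odd ((F.t_comm.mul_left F.b_comm).mul_left F.t_comm.inv_left) F.a_comm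
    (by rw [show F.t * F.b * F.t⁻¹ = MulAut.conj F.t F.b from rfl, MulEquiv.orderOf_eq]; exact F.b_odd)
    F.a_odd ?_).symm
  rw [S.img_conj F.t_comm F.b_comm, F.img_t, F.img_b, F.img_a, (t0_facts h9 h10).2.2.2.2.1]

theorem t_conj_c (h10 : n ≤ 10) : F.t * F.c * F.t⁻¹ = F.c⁻¹ := by
  refine (S.eq_of_odd ((F.t_comm.mul_left F.c_comm).mul_left F.t_comm.inv_left) F.c_comm.inv_left
    (by rw [show F.t * F.c * F.t⁻¹ = MulAut.conj F.t F.c from rfl, MulEquiv.orderOf_eq]; exact F.c_odd)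
    (by rw [orderOf_inv]; exact F.c_odd) ?_).symm
  rw [S.img_conj F.t_comm F.c_comm, F.img_t, F.img_c, S.img_inv F.c_comm, F.img_c,
    (t0_facts h9 h10).2.2.2.2.2]

theorem t_comm_y (h10 : n ≤ 10) : Commute F.t (F.a * F.b) := by
  have h : F.t * (F.a * F.b) * F.t⁻¹ = F.a * F.b := by
    rw [← conj_mul, F.t_conj_a h10, F.t_conj_b h10, (F.commute_ab h10).eq]
  exact mul_inv_eq_iff_eq_mul.mp h

theorem y_comm : Commute (F.a * F.b) z := F.a_comm.mul_left F.b_comm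

theorem img_y : S.img (F.a * F.b) = a0 h9 * b0 h9 := by
  rw [S.img_mul F.a_comm F.b_comm, F.img_a, F.img_b]

theorem y_ord (h10 : n ≤ 10) : orderOf (F.a * F.b) = 3 := by
  haveI : Fact (Nat.Prime 3) := ⟨Nat.prime_three⟩
  refine orderOf_eq_prime ?_ ?_
  · rw [(F.commute_ab h10).mul_pow, show F.a ^ 3 = 1 by rw [← F.a_ord]; exact pow_orderOf_eq_one _,
      show F.b ^ 3 = 1 by rw [← F.b_ord]; exact pow_orderOf_eq_one _, one_mul]
  · intro h
    apply (cyc0_facts h9 h10).2.2.2.2.2.2.2.2.2.2.2.2.2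
    rw [← F.img_y, h, S.img_one]

theorem exists_conj_tz [Finite G] (h10 : n ≤ 10) :
    ∃ g : G, Commute g z ∧ g * F.t * g⁻¹ = F.t * z := by
  refine S.exists_conj_mul_z F.t_comm (p := Fin.castLE h9 0) (r := Fin.castLE h9 1) ?_ ?_ ?_ ?_ ?_ ?_ <;>
    (try rw [F.img_t]) <;> obtain rfl | rfl : n = 9 ∨ n = 10 := by omega
  all_goals (clear F h10; revert h9; decide +kernel)

/-- Both `t` and `t * z` are conjugate to `z` inside the centraliser of `a * b`. -/
theorem exists_conj_z [Finite G] (h10 : n ≤ 10) {u : G} (hu : u = F.t ∨ u = F.t * z) :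
    ∃ h : G, Commute h (F.a * F.b) ∧ h * u * h⁻¹ = z := by
  classical
  have hyc := F.y_comm
  set y := F.a * F.b with hy
  have hty : Commute F.t y := F.t_comm_y h10
  have huy : Commute u y := by
    rcases hu with rfl | rfl
    · exact hty
    · exact hty.mul_left hyc.symm
  have huz : Commute u z := by
    rcases hu with rfl | rfl
    · exact F.t_comm
    · exact F.t_comm.mul_left (Commute.refl z)
  have huz' : u ≠ z := by
    rcases hu with rfl | rfl
    · exact F.t_ne_z h10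
    · intro h; exact F.t_ne_one h10 (mul_eq_right.mp h)
  obtain ⟨g, hg⟩ : ∃ g : G, g * u * g⁻¹ = z := by
    obtain ⟨g, hg⟩ := F.isConj
    rcases hu with rfl | rfl
    · exact ⟨g⁻¹, by rw [← hg]; group⟩
    · obtain ⟨k, -, hk⟩ := F.exists_conj_tz h10
      exact ⟨(k * g)⁻¹, by rw [← hk, ← hg]; group⟩
  have hy'c : Commute (g * y * g⁻¹) z := hg ▸ (huy.symm.map (MulAut.conj g))
  have hz'c : Commute (g * z * g⁻¹) z := hg ▸ (huz.symm.map (MulAut.conj g))
  set y' := g * y * g⁻¹ with hy'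
  set z' := g * z * g⁻¹ with hz'
  have hz'y' : Commute z' y' := hyc.symm.map (MulAut.conj g)
  have ho : orderOf y' = 3 := by
    rw [hy', show g * y * g⁻¹ = MulAut.conj g y from rfl, MulEquiv.orderOf_eq, F.y_ord h10]
  have hz'2 : z' * z' = 1 := by
    rw [hz', show g * z * g⁻¹ * (g * z * g⁻¹) = g * (z * z) * g⁻¹ by group, S.z_sq]; group
  have hz'1 : z' ≠ 1 := fun h => S.z_ne_one (by
    calc z = g⁻¹ * z' * g := by rw [hz']; group
      _ = 1 := by rw [h]; group)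
  have hz'z : z' ≠ z := fun h => huz' (by
    calc u = g⁻¹ * (g * u * g⁻¹) * g := by group
      _ = g⁻¹ * z' * g := by rw [hg, h]
      _ = z := by rw [hz']; group)
  haveI : Fact (Nat.Prime 3) := ⟨Nat.prime_three⟩
  have hoi : orderOf (S.img y') = 3 := by
    refine orderOf_eq_prime (by rw [← S.img_pow hy'c, ← ho, pow_orderOf_eq_one, S.img_one]) ?_
    intro h
    rcases (S.img_eq_one hy'c).mp h with e | e
    · rw [e, orderOf_one] at ho; omega
    · rw [e, S.hz] at ho; omega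
  have hct : (S.img y').cycleType = {3, 3} := cycleType_of_commute h10 _ (S.img z') hoi
    (by rw [← S.img_mul hz'c hz'c, hz'2, S.img_one]) (S.fix_le_two h10 hz'c hz'2 hz'1 hz'z)
    (S.commute_img hz'c hy'c hz'y').eq
  have hy0 := y0_facts h9 h10
  obtain ⟨σ, hσ⟩ := isConj_iff.mp (Perm.isConj_iff_cycleType_eq.mpr (hct.trans hy0.1.symm))
  obtain ⟨σ', hs, hσ'⟩ : ∃ σ' : Perm (Fin n),
      Perm.sign σ' = 1 ∧ σ' * S.img y' * σ'⁻¹ = a0 h9 * b0 h9 := by
    rcases Int.units_eq_one_or (Perm.sign σ) with h | h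
    · exact ⟨σ, h, hσ⟩
    · refine ⟨swap (Fin.castLE h9 6) (Fin.castLE h9 7) * σ, ?_, ?_⟩
      · rw [map_mul, h, Perm.sign_swap (by simp [Fin.ext_iff])]; rfl
      · conv_rhs => rw [← hy0.2]
        rw [← hσ, mul_inv_rev, swap_inv]; group
  obtain ⟨k, hk, hki⟩ := S.exists_img hs
  have hky : k * y' * k⁻¹ = y := by
    refine (S.eq_of_odd ((hk.mul_left hy'c).mul_left hk.inv_left) hyc
      (by rw [show k * y' * k⁻¹ = MulAut.conj k y' from rfl, MulEquiv.orderOf_eq, ho]; decide)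
      (by rw [F.y_ord h10]; decide) ?_).symm
    rw [S.img_conj hk hy'c, hki, hσ', F.img_y]
  refine ⟨k * g, ?_, ?_⟩
  · show k * g * y = y * (k * g)
    conv_rhs => rw [← hky, hy']
    group
  · rw [show k * g * u * (k * g)⁻¹ = k * (g * u * g⁻¹) * k⁻¹ by group, hg, hk.eq]; group

end Frame

end CfsgLib.AltDoubleCent
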