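import Cfsg.Agent.Lib.AltDoubleCent.Setting

/-!
The frame used in degrees nine and ten: a conjugate `t` of `z` in the centraliser of `z`, and the
lifts `a`, `b`, `c` of order three of three disjoint three-cycles permuted by it.
-/

set_option autoImplicit false

namespace CfsgLib.AltDoubleCent

open Equiv CfsgLib.RealChar.AltCover

universe u

variable {n : ℕ}

/-- The image of `t`: `(0 3)(1 4)(2 5)(6 7)`. -/
def t0 (h : 9 ≤ n) : Perm (Fin n) :=
  swap ⟨0, by omega⟩ ⟨3, by omega⟩ * swap ⟨1, by omega⟩ ⟨4, by omega⟩ *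
    (swap ⟨2, by omega⟩ ⟨5, by omega⟩ * swap ⟨6, by omega⟩ ⟨7, by omega⟩)

/-- The image of `a`: `(0 1 2)`. -/
def a0 (h : 9 ≤ n) : Perm (Fin n) := cyc ⟨0, by omega⟩ ⟨1, by omega⟩ ⟨2, by omega⟩

/-- The image of `b`: `(3 4 5)`. -/
def b0 (h : 9 ≤ n) : Perm (Fin n) := cyc ⟨3, by omega⟩ ⟨4, by omega⟩ ⟨5, by omega⟩

/-- The image of `c`: `(6 7 8)`. -/
def c0 (h : 9 ≤ n) : Perm (Fin n) := cyc ⟨6, by omega⟩ ⟨7, by omega⟩ ⟨8, by omega⟩

/-- The frame. -/
structure Frame {G : Type u} [Group G] {z : G} (S : Setting G n z) (h9 : 9 ≤ n) where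
  t : G
  a : G
  b : G
  c : G
  isConj : ∃ g : G, g * z * g⁻¹ = t
  t_comm : Commute t z
  a_comm : Commute a z
  b_comm : Commute b z
  c_comm : Commute c z
  a_ord : orderOf a = 3
  b_ord : orderOf b = 3
  c_ord : orderOf c = 3
  img_t : S.img t = t0 h9
  img_a : S.img a = a0 h9
  img_b : S.img b = b0 h9
  img_c : S.img c = c0 h9

end CfsgLib.AltDoubleCent
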