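import Mathlib
import Cfsg.Prelude.Def_SporadicB
import Cfsg.Agent.Lib.Classes.AltCoverComm
import Cfsg.Agent.S0215

/-!
An involution `z` whose centraliser is a perfect double cover of an alternating group: the common
interface for the determination of the degree.
-/

set_option autoImplicit false
set_option linter.unusedSectionVars false

namespace CfsgLib.AltDoubleCent

open Equiv CfsgLib.Classes.AltCoverComm

universe u

/-- The centraliser of `z` is a perfect double cover of `A_n` with kernel `{1, z}`. -/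
structure Setting (G : Type u) [Group G] (n : ℕ) (z : G) where
  hz : orderOf z = 2
  φ : Subgroup.centralizer ({z} : Set G) →* alternatingGroup (Fin n)
  surj : Function.Surjective φ
  ker_iff : ∀ x, φ x = 1 ↔ (x : G) = 1 ∨ (x : G) = z
  perfect : commutator (Subgroup.centralizer ({z} : Set G)) = ⊤

variable {G : Type u} [Group G] {n : ℕ} {z : G}

theorem mem_cent {x : G} : x ∈ Subgroup.centralizer ({z} : Set G) ↔ Commute x z := by
  rw [Subgroup.mem_centralizer_singleton_iff]
  exact Iff.rfl

namespace Setting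

variable (S : Setting G n z)

open scoped Classical in
/-- The image in `Perm (Fin n)` of an element commuting with `z`; junk value `1` elsewhere. -/
noncomputable def img (x : G) : Perm (Fin n) :=
  if h : x ∈ Subgroup.centralizer ({z} : Set G) then (S.φ ⟨x, h⟩ : Perm (Fin n)) else 1

theorem img_eq {x : G} (hx : Commute x z) :
    S.img x = (S.φ ⟨x, mem_cent.mpr hx⟩ : Perm (Fin n)) := by
  simp [img, mem_cent.mpr hx]

theorem img_coe (x : Subgroup.centralizer ({z} : Set G)) : S.img x = (S.φ x : Perm (Fin n)) := by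
  rw [S.img_eq (mem_cent.mp x.2)]

theorem img_one : S.img 1 = 1 := by
  rw [S.img_eq (Commute.one_left z)]
  exact congrArg Subtype.val (map_one S.φ)

theorem img_mul {x y : G} (hx : Commute x z) (hy : Commute y z) :
    S.img (x * y) = S.img x * S.img y := by
  rw [S.img_eq (hx.mul_left hy), S.img_eq hx, S.img_eq hy, ← Subgroup.coe_mul, ← map_mul]
  rfl

theorem img_inv {x : G} (hx : Commute x z) : S.img x⁻¹ = (S.img x)⁻¹ := by
  rw [S.img_eq hx.inv_left, S.img_eq hx, ← Subgroup.coe_inv, ← map_inv]
  rfl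

theorem img_pow {x : G} (hx : Commute x z) (k : ℕ) : S.img (x ^ k) = S.img x ^ k := by
  induction k with
  | zero => simp [S.img_one]
  | succ k ih => rw [pow_succ, pow_succ, S.img_mul (hx.pow_left k) hx, ih]

theorem img_conj {x g : G} (hg : Commute g z) (hx : Commute x z) :
    S.img (g * x * g⁻¹) = S.img g * S.img x * (S.img g)⁻¹ := by
  rw [S.img_mul (hg.mul_left hx) hg.inv_left, S.img_mul hg hx, S.img_inv hg]

theorem sign_img (x : G) : Perm.sign (S.img x) = 1 := by
  unfold img
  split
  · exact Perm.mem_alternatingGroup.mp (S.φ _).2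
  · exact map_one _

theorem img_mem (x : G) : S.img x ∈ alternatingGroup (Fin n) :=
  Perm.mem_alternatingGroup.mpr (S.sign_img x)

include S in
theorem z_ne_one : z ≠ 1 := by
  intro h
  have := S.hz
  rw [h, orderOf_one] at this
  omega

include S in
theorem z_sq : z * z = 1 := by
  have h := pow_orderOf_eq_one z
  rwa [S.hz, pow_two] at h

include S in
theorem z_inv : z⁻¹ = z := inv_eq_of_mul_eq_one_right S.z_sq

theorem img_eq_one {x : G} (hx : Commute x z) : S.img x = 1 ↔ x = 1 ∨ x = z := by
  rw [S.img_eq hx, ← Subgroup.coe_one (alternatingGroup (Fin n)), Subtype.coe_inj, S.ker_iff]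

theorem img_z : S.img z = 1 := (S.img_eq_one (Commute.refl z)).mpr (Or.inr rfl)

theorem img_mul_z {x : G} (hx : Commute x z) : S.img (x * z) = S.img x := by
  rw [S.img_mul hx (Commute.refl z), S.img_z, mul_one]

theorem exists_img {σ : Perm (Fin n)} (hσ : Perm.sign σ = 1) :
    ∃ x : G, Commute x z ∧ S.img x = σ := by
  obtain ⟨x, hx⟩ := S.surj ⟨σ, Perm.mem_alternatingGroup.mpr hσ⟩
  exact ⟨x, mem_cent.mp x.2, by rw [S.img_coe, hx]⟩

theorem eq_or_eq_mul_z {x y : G} (hx : Commute x z) (hy : Commute y z) (h : S.img x = S.img y) :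
    y = x ∨ y = x * z := by
  have h1 : S.img (x⁻¹ * y) = 1 := by
    rw [S.img_mul hx.inv_left hy, S.img_inv hx, h, inv_mul_cancel]
  rcases (S.img_eq_one (hx.inv_left.mul_left hy)).mp h1 with e | e
  · exact Or.inl (inv_mul_eq_one.mp e).symm
  · exact Or.inr (by rw [← e, mul_inv_cancel_left])

include S in
/-- A power of `z` with odd order is trivial. -/
theorem z_odd {x : G} (h : x = 1 ∨ x = z) (ho : Odd (orderOf x)) : x = 1 := by
  rcases h with h | h
  · exact h
  · rw [h, S.hz] at ho
    exact absurd ho (by decide)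

theorem orderOf_img_odd {x : G} (hx : Commute x z) (hox : Odd (orderOf x)) :
    Odd (orderOf (S.img x)) := by
  refine Odd.of_dvd_nat hox (orderOf_dvd_of_pow_eq_one ?_)
  rw [← S.img_pow hx, pow_orderOf_eq_one, S.img_one]

theorem eq_of_odd {x y : G} (hx : Commute x z) (hy : Commute y z) (hox : Odd (orderOf x))
    (hoy : Odd (orderOf y)) (h : S.img x = S.img y) : y = x := by
  rcases S.eq_or_eq_mul_z hx hy h with e | e
  · exact e
  · exfalso
    have h1 : y ^ (orderOf x * orderOf y) = 1 := by
      rw [mul_comm, pow_mul, pow_orderOf_eq_one, one_pow]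
    rw [e, hx.mul_pow] at h1
    rw [pow_mul, pow_orderOf_eq_one, one_pow, one_mul] at h1
    have h2 := orderOf_dvd_of_pow_eq_one h1
    rw [S.hz] at h2
    exact absurd h2 (by rw [← even_iff_two_dvd]; exact Nat.not_even_iff_odd.mpr (e ▸ hox.mul hoy))

/-- The lift of odd order of an even permutation of odd order. -/
theorem exists_odd_img {σ : Perm (Fin n)} (hσ : Perm.sign σ = 1) (ho : Odd (orderOf σ)) :
    ∃ x : G, Commute x z ∧ S.img x = σ ∧ orderOf x = orderOf σ := by
  obtain ⟨x, hx, hxσ⟩ := S.exists_img hσ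
  have hm : S.img (x ^ orderOf σ) = 1 := by rw [S.img_pow hx, hxσ, pow_orderOf_eq_one]
  rcases (S.img_eq_one (hx.pow_left _)).mp hm with e | e
  · refine ⟨x, hx, hxσ, Nat.dvd_antisymm (orderOf_dvd_of_pow_eq_one e) ?_⟩
    apply orderOf_dvd_of_pow_eq_one
    rw [← hxσ, ← S.img_pow hx, pow_orderOf_eq_one, S.img_one]
  · have hxz : Commute (x * z) z := hx.mul_left (Commute.refl z)
    have hi : S.img (x * z) = σ := by rw [S.img_mul_z hx, hxσ]
    refine ⟨x * z, hxz, hi, Nat.dvd_antisymm (orderOf_dvd_of_pow_eq_one ?_) ?_⟩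
    · obtain ⟨k, hk⟩ := ho
      rw [hx.mul_pow, e, hk, pow_succ, pow_mul, pow_two, S.z_sq, one_pow, one_mul, S.z_sq]
    · apply orderOf_dvd_of_pow_eq_one
      rw [← hi, ← S.img_pow hxz, pow_orderOf_eq_one, S.img_one]

/-- Elements with commuting images commute, if one of them has odd order. -/
theorem commute_of_img {x y : G} (hx : Commute x z) (hy : Commute y z) (ho : Odd (orderOf x))
    (h : Commute (S.img x) (S.img y)) : Commute x y := by
  have hc : Commute (y * x * y⁻¹) z := (hy.mul_left hx).mul_left hy.inv_left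
  have hi : S.img x = S.img (y * x * y⁻¹) := by
    rw [S.img_conj hy hx, ← h.eq, mul_inv_cancel_right]
  have ho' : Odd (orderOf (y * x * y⁻¹)) := by
    rwa [show y * x * y⁻¹ = MulAut.conj y x from rfl, MulEquiv.orderOf_eq]
  have := S.eq_of_odd hx hc ho ho' hi
  exact (mul_inv_eq_iff_eq_mul.mp this).symm

theorem commute_img {x y : G} (hx : Commute x z) (hy : Commute y z) (h : Commute x y) :
    Commute (S.img x) (S.img y) :=
  show _ = _ by rw [← S.img_mul hx hy, h.eq, S.img_mul hy hx]

/-- The setting at a conjugate of `z`. -/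
noncomputable def conj (g : G) {u : G} (hu : g * z * g⁻¹ = u) : Setting G n u := by
  subst hu
  let ψ : Subgroup.centralizer ({g * z * g⁻¹} : Set G) →* Subgroup.centralizer ({z} : Set G) :=
    ((MulAut.conj g⁻¹).toMonoidHom.comp (Subgroup.subtype _)).codRestrict _ fun x => by
      have h := (mem_cent.mp x.2).map (MulAut.conj g⁻¹)
      simpa [mem_cent, mul_assoc] using h
  have hψ : Function.Surjective ψ := fun y => by
    refine ⟨⟨g * y * g⁻¹, mem_cent.mpr ((mem_cent.mp y.2).map (MulAut.conj g))⟩, Subtype.ext ?_⟩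
    simp [ψ, MonoidHom.codRestrict, mul_assoc]
  refine ⟨?_, S.φ.comp ψ, S.surj.comp hψ, fun x => ?_, ?_⟩
  · rw [show g * z * g⁻¹ = MulAut.conj g z from rfl, MulEquiv.orderOf_eq, S.hz]
  · rw [MonoidHom.comp_apply, S.ker_iff]
    show g⁻¹ * (x : G) * g⁻¹⁻¹ = 1 ∨ g⁻¹ * (x : G) * g⁻¹⁻¹ = z ↔ _
    rw [inv_inv]
    constructor
    · rintro (h | h)
      · left
        calc (x : G) = g * (g⁻¹ * x * g) * g⁻¹ := by group
          _ = 1 := by rw [h]; group
      · right
        calc (x : G) = g * (g⁻¹ * x * g) * g⁻¹ := by group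
          _ = g * z * g⁻¹ := by rw [h]
    · rintro (h | h)
      · left; rw [h]; group
      · right; rw [h]; group
  · have hinj : Function.Injective ψ := fun a b h => by
      have h' := congrArg Subtype.val h
      simpa [ψ, MonoidHom.codRestrict] using h'
    have h := S.perfect
    apply Subgroup.map_injective (f := ψ) hinj
    rw [Subgroup.map_top_of_surjective ψ hψ, ← h, commutator_def, Subgroup.map_commutator,
      Subgroup.map_top_of_surjective ψ hψ, commutator_def]

theorem conj_img {g x u : G} (hu : g * z * g⁻¹ = u) (hx : Commute x z) :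
    (S.conj g hu).img (g * x * g⁻¹) = S.img x := by
  subst hu
  have hc : Commute (g * x * g⁻¹) (g * z * g⁻¹) := hx.map (MulAut.conj g)
  rw [(S.conj g rfl).img_eq hc, S.img_eq hx]
  show ((S.φ _ : alternatingGroup (Fin n)) : Perm (Fin n)) = _
  congr 2
  apply Subtype.ext
  show g⁻¹ * (g * x * g⁻¹) * g⁻¹⁻¹ = x
  group

section Finite

variable [Finite G]

include S in
theorem ker_card : Nat.card S.φ.ker = 2 := by
  have hzm : z ∈ Subgroup.centralizer ({z} : Set G) := mem_cent.mpr (Commute.refl z)
  refine Nat.card_eq_two_iff.mpr ⟨1, ⟨⟨z, hzm⟩, (S.ker_iff _).mpr (Or.inr rfl)⟩, ?_, ?_⟩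
  · intro h
    exact S.z_ne_one (congrArg (fun x : S.φ.ker => ((x : Subgroup.centralizer ({z} : Set G)) : G)) h).symm
  · apply Set.eq_univ_of_forall
    intro x
    rcases (S.ker_iff x.1).mp x.2 with h | h
    · exact Or.inl (Subtype.ext (Subtype.ext h))
    · exact Or.inr (Subtype.ext (Subtype.ext h))

theorem ker_le_center : S.φ.ker ≤ Subgroup.center (Subgroup.centralizer ({z} : Set G)) := by
  intro x hx
  rw [Subgroup.mem_center_iff]
  intro y
  apply Subtype.ext
  rcases (S.ker_iff x).mp hx with h | h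
  · simp [h]
  · simp only [Subgroup.coe_mul, h]
    exact (mem_cent.mp y.2).eq

/-- A double transposition lifts to elements of order four. -/
theorem sq_eq_z {x : G} (hx : Commute x z) {p q r t : Fin n} (h : Four p q r t)
    (hi : S.img x = swap p q * swap r t) : x * x = z := by
  have h1 : S.img (x * x) = 1 := by rw [S.img_mul hx hx, hi, h.sq]
  rcases (S.img_eq_one (hx.mul_left hx)).mp h1 with e | e
  · exact absurd (Subtype.ext e : (⟨x, mem_cent.mpr hx⟩ : Subgroup.centralizer ({z} : Set G)) * ⟨x, mem_cent.mpr hx⟩ = 1)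
      (sq_ne_one S.surj S.ker_le_center S.ker_card S.perfect h (by rw [← S.img_eq hx, hi]))
  · exact e

/-- An element whose image has two two-cycles is conjugate to its product with `z` inside the
centraliser of `z`. -/
theorem exists_conj_mul_z {x : G} (hx : Commute x z) {p r : Fin n}
    (hp : S.img x p ≠ p) (hpp : S.img x (S.img x p) = p)
    (hr : S.img x r ≠ r) (hrr : S.img x (S.img x r) = r)
    (hrp : r ≠ p) (hrp' : r ≠ S.img x p) :
    ∃ g : G, Commute g z ∧ g * x * g⁻¹ = x * z := by
  rw [S.img_eq hx] at hp hpp hr hrr hrp'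
  obtain ⟨g, hg⟩ := exists_anticommute S.surj S.ker_le_center S.ker_card S.perfect
    (z := ⟨z, mem_cent.mpr (Commute.refl z)⟩) ((S.ker_iff _).mpr (Or.inr rfl))
    (fun e => S.z_ne_one (congrArg Subtype.val e)) hp hpp hr hrr hrp hrp'
  refine ⟨g, mem_cent.mp g.2, ?_⟩
  have hg' : (g : G) * x = x * g * z := congrArg Subtype.val hg
  have hc : Commute (g : G) z := mem_cent.mp g.2
  rw [hg', mul_assoc x, hc.eq]
  group

include S in
/-- Glauberman's theorem: some conjugate of `z` other than `z` commutes with it. -/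
theorem exists_conj_ne [IsSimpleGroup G] (hn : 5 ≤ n) :
    ∃ g : G, Commute (g * z * g⁻¹) z ∧ g * z * g⁻¹ ≠ z := by
  obtain ⟨P, hP⟩ := IsPGroup.exists_le_sylow (G := G) (p := 2) (P := Subgroup.zpowers z)
    (IsPGroup.of_card (n := 1) (by rw [Nat.card_zpowers, S.hz]; norm_num))
  have hzP : z ∈ P := hP (Subgroup.mem_zpowers z)
  have hex : ∃ g : G, g * z * g⁻¹ ∈ P ∧ g * z * g⁻¹ ≠ z := by
    by_contra hne
    push Not at hne
    obtain ⟨N, hN, hodd, hcom⟩ := Cfsg.Agent.S0215.result P z S.hz hzP hne
    rcases hN.eq_bot_or_eq_top with hb | ht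
    · subst hb
      have hzc : ∀ g : G, Commute g z := fun g => by
        have h := Subgroup.mem_bot.mp (hcom g)
        rw [mul_inv_eq_one, mul_inv_eq_iff_eq_mul] at h
        exact h.symm
      have hab : IsMulCommutative (Subgroup.center G) := inferInstance
      have hctop : Subgroup.center G = ⊤ := by
        rcases (inferInstance : (Subgroup.center G).Normal).eq_bot_or_eq_top with h | h
        · exact absurd (Subgroup.mem_bot.mp (h ▸ Subgroup.mem_center_iff.mpr fun g => (hzc g).eq))
            S.z_ne_one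
        · exact h
      obtain ⟨p, q, r, t, h4⟩ : ∃ p q r t : Fin n, Four p q r t :=
        ⟨⟨0, by omega⟩, ⟨1, by omega⟩, ⟨2, by omega⟩, ⟨3, by omega⟩,
          by constructor <;> simp [Fin.ext_iff]⟩
      obtain ⟨a, hac, ha⟩ := S.exists_img h4.sign
      obtain ⟨b, hbc, hb⟩ := S.exists_img
        (Four.sign (⟨h4.pr, h4.pq, h4.pt, h4.qr.symm, h4.rt, h4.qt⟩ : Four p r q t))
      have hab2 : a * b = b * a :=
        Subgroup.mem_center_iff.mp (hctop ▸ Subgroup.mem_top b) a
      exact not_commute S.surj S.ker_le_center S.ker_card S.perfect h4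
        (D := ⟨a, mem_cent.mpr hac⟩) (S := ⟨b, mem_cent.mpr hbc⟩)
        (by rw [← S.img_eq hac, ha]) (by rw [← S.img_eq hbc, hb]) (Subtype.ext hab2)
    · have h2 : 2 ∣ Nat.card N := by
        rw [ht, Subgroup.card_top, ← S.hz]
        exact orderOf_dvd_natCard z
      exact absurd h2 (by rw [← even_iff_two_dvd]; exact Nat.not_even_iff_odd.mpr hodd)
  obtain ⟨g₀, hg₀, hg₀'⟩ := hex
  suffices key : ∀ m : ℕ, ∀ g : G, g * z * g⁻¹ ∈ P → g * z * g⁻¹ ≠ z →
      orderOf (z * (g * z * g⁻¹)) = 2 ^ m →
      ∃ g : G, Commute (g * z * g⁻¹) z ∧ g * z * g⁻¹ ≠ z by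
    obtain ⟨m, hm⟩ := (P.2.exists_orderOf_eq_pow ⟨_, P.1.mul_mem hzP hg₀⟩)
    rw [Subgroup.orderOf_mk] at hm
    exact key m g₀ hg₀ hg₀' hm
  intro m
  induction m with
  | zero =>
    intro g _ hne ho
    rw [pow_zero, orderOf_eq_one_iff] at ho
    exact absurd ((inv_eq_of_mul_eq_one_right ho).symm.trans S.z_inv) hne
  | succ m ih =>
    intro g hg hne ho
    set w := g * z * g⁻¹ with hw
    have hwi : w⁻¹ = w := by rw [hw, conj_inv, S.z_inv]
    by_cases hcomm : Commute w z
    · exact ⟨g, hcomm, hne⟩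
    refine ih (w * 1) ?_ ?_ ?_
    · rw [mul_one, hwi]
      exact P.1.mul_mem (P.1.mul_mem hg hzP) hg
    · rw [mul_one, hwi]
      intro e
      apply hcomm
      show w * z = z * w
      conv_rhs => rw [← e]
      rw [mul_assoc _ w w]
      nth_rewrite 4 [← hwi]
      rw [mul_inv_cancel, mul_one]
    · rw [mul_one, hwi, show z * (w * z * w) = (z * w) ^ 2 by rw [pow_two]; group,
        orderOf_pow' _ (by norm_num), ho, pow_succ, Nat.gcd_mul_left_left, Nat.mul_div_cancel _ (by norm_num)]

end Finite

end Setting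

/-- The interface from the hypothesis of the statement. -/
theorem Setting.nonempty [Finite G] (hn : 5 ≤ n) (hz : orderOf z = 2)
    (hcov : Cfsg.IsNonsplitDoubleCover (Subgroup.centralizer ({z} : Set G))
      (alternatingGroup (Fin n))) : Nonempty (Setting G n z) := by
  obtain ⟨hc2, ⟨e⟩, hns⟩ := hcov
  set C := Subgroup.centralizer ({z} : Set G)
  let z' : C := ⟨z, mem_cent.mpr (Commute.refl z)⟩
  have hzc : z' ∈ Subgroup.center C :=
    Subgroup.mem_center_iff.mpr fun y => Subtype.ext (mem_cent.mp y.2).eq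
  have hz1 : z' ≠ 1 := fun h => by
    have h' : z = 1 := congrArg Subtype.val h
    rw [h', orderOf_one] at hz
    omega
  have hcen : ∀ x ∈ Subgroup.center C, x = 1 ∨ x = z' := fun x hx => by
    by_contra hne
    push Not at hne
    obtain ⟨a, b, hab, huniv⟩ := Nat.card_eq_two_iff.mp hc2
    have key : ∀ y : Subgroup.center C, y = a ∨ y = b := fun y => by
      have : y ∈ ({a, b} : Set (Subgroup.center C)) := huniv ▸ Set.mem_univ y
      simpa using this
    rcases key 1 with h1 | h1 <;> rcases key ⟨z', hzc⟩ with h2 | h2 <;>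
      rcases key ⟨x, hx⟩ with h3 | h3
    all_goals first
      | exact hz1 (congrArg Subtype.val (h2.trans h1.symm))
      | exact hne.1 (congrArg Subtype.val (h3.trans h1.symm))
      | exact hne.2 (congrArg Subtype.val (h3.trans h2.symm))
  let π : C →* alternatingGroup (Fin n) := e.toMonoidHom.comp (QuotientGroup.mk' _)
  have hπ : Function.Surjective π := e.surjective.comp (QuotientGroup.mk'_surjective _)
  have hker : ∀ x, π x = 1 ↔ x ∈ Subgroup.center C := fun x => by
    simp [π, QuotientGroup.eq_one_iff]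
  refine ⟨⟨hz, π, hπ, fun x => ?_, ?_⟩⟩
  · rw [hker]
    constructor
    · intro hx
      rcases hcen x hx with h | h
      · exact Or.inl (congrArg Subtype.val h)
      · exact Or.inr (congrArg Subtype.val h)
    · rintro (h | h)
      · rw [show x = 1 from Subtype.ext h]; exact one_mem _
      · rw [show x = z' from Subtype.ext h]; exact hzc
  · have hmap : (commutator C).map π = ⊤ := by
      rw [commutator_def, Subgroup.map_commutator, Subgroup.map_top_of_surjective π hπ,
        ← commutator_def]
      exact commutator_alternatingGroup_eq_top (by simpa using hn)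
    have hsup : ∀ x : C, ∃ a ∈ commutator C, ∃ b ∈ Subgroup.center C, a * b = x := fun x => by
      obtain ⟨a, ha, hax⟩ := Subgroup.mem_map.mp (hmap ▸ Subgroup.mem_top (π x))
      refine ⟨a, ha, a⁻¹ * x, (hker _).mp ?_, by group⟩
      rw [map_mul, map_inv, hax, inv_mul_cancel]
    by_contra hne
    apply hns (commutator C)
    have hzn : z' ∉ commutator C := fun hzm => hne (eq_top_iff.mpr fun x _ => by
      obtain ⟨a, ha, b, hb, rfl⟩ := hsup x
      rcases hcen b hb with h | h
      · rw [h, mul_one]; exact ha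
      · rw [h]; exact mul_mem ha hzm)
    refine Subgroup.isComplement'_of_disjoint_and_mul_eq_univ ?_ ?_
    · rw [Subgroup.disjoint_def]
      intro x hx hx'
      rcases hcen x hx with h | h
      · exact h
      · exact absurd (h ▸ hx') hzn
    · apply Set.eq_univ_of_forall
      intro x
      obtain ⟨a, ha, b, hb, rfl⟩ := hsup x
      exact ⟨b, hb, a, ha, (Subgroup.mem_center_iff.mp hb a).symm⟩

end CfsgLib.AltDoubleCent
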